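import Groth.Agent.Variety.K424.IntSum
import Groth.Agent.Variety.K432.NefBasic
import Groth.Agent.Variety.K420.LenEuler
import Groth.Agent.PicF.K248.Basic
import Groth.Agent.Ega2.SmoothBdry
import Groth.Agent.PerfB.FibreConc
import Groth.Prelude.Def_Curve

/-!
# Degrees of vector bundles on the curves of a proper scheme

* `cdeg k X E r ξ`: the degree of `E` on the closure of `ξ`.
* `phi_eq`: `χ(E ⊗ F) - r χ(F) = Σ_ξ length(F_ξ) cdeg(ξ)` for `F` with support of dimension at most one.
* `exists_curve`: the closure of `ξ` is the image of a smooth proper curve.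
* `deg_map`: the degree of `f^*E` for a curve `f : C ⟶ X`.

Author: helper792
-/

set_option autoImplicit false
universe u
open CategoryTheory CategoryTheory.Limits AlgebraicGeometry TopologicalSpace Opposite

namespace K792.CurveSum

open Groth.Agent K424.LenSum K424.IntSum

section sums

variable {X : Scheme.{u}}

theorem one_le_length [IsNoetherian X] {F : X.Modules} (hF : Coh.IsCoh F)
    {d : ℕ} (hd : topologicalKrullDim (CohB1.support F) ≤ d) {ξ : X} (hξF : ξ ∈ CohB1.support F)
    (hξ : topologicalKrullDim (closure ({ξ} : Set X)) = (d : WithBot ℕ∞)) :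
    1 ≤ (Module.length (X.presheaf.stalk ξ) (F.presheaf.stalk ξ)).toNat := by
  have h1 := length_ne_top hF (Ega3B.Devissage.isClosed_support hF) subset_rfl hd ξ hξ
  rw [Nat.one_le_iff_ne_zero]
  intro h2
  rw [ENat.toNat_eq_zero] at h2
  rcases h2 with h2 | h2
  · rw [Module.length_eq_zero_iff] at h2
    exact hξF h2
  · exact h1 h2

theorem finite_support_term [IsNoetherian X] {F : X.Modules} (hF : Coh.IsCoh F)
    {d : ℕ} (hd : topologicalKrullDim (CohB1.support F) ≤ d) (c : X → ℤ) :
    (Function.support (term d c F)).Finite :=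
  (finite_points (Ega3B.Devissage.isClosed_support hF) hd).subset
    (support_term_subset d c F _ subset_rfl)

theorem term_nonneg (F : X.Modules) (d : ℕ) (c : X → ℤ)
    (hc : ∀ ξ ∈ CohB1.support F, topologicalKrullDim (closure ({ξ} : Set X)) = (d : WithBot ℕ∞) → 0 ≤ c ξ) (ξ : X) :
    0 ≤ term d c F ξ := by
  by_cases h1 : ξ ∈ CohB1.support F
  · by_cases h2 : topologicalKrullDim (closure ({ξ} : Set X)) = (d : WithBot ℕ∞)
    · unfold term
      rw [if_pos h2]
      exact mul_nonneg (by positivity) (hc ξ h1 h2)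
    · rw [term_eq_zero_of_dim d c F ξ h2]
  · rw [term_eq_zero_of_notMem d c F ξ h1]

theorem le_lenSum [IsNoetherian X] {F : X.Modules} (hF : Coh.IsCoh F)
    {d : ℕ} (hd : topologicalKrullDim (CohB1.support F) ≤ d) (c : X → ℤ)
    (hc : ∀ ξ ∈ CohB1.support F, topologicalKrullDim (closure ({ξ} : Set X)) = (d : WithBot ℕ∞) → 0 ≤ c ξ)
    {ξ : X} (hξF : ξ ∈ CohB1.support F) (hξ : topologicalKrullDim (closure ({ξ} : Set X)) = (d : WithBot ℕ∞)) :
    c ξ ≤ lenSum d c F := by
  have h1 : term d c F ξ ≤ lenSum d c F :=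
    single_le_finsum ξ (finite_support_term hF hd c) (term_nonneg F d c hc)
  refine le_trans ?_ h1
  unfold term
  rw [if_pos hξ]
  have h2 := one_le_length hF hd hξF hξ
  have h3 := hc ξ hξF hξ
  have h4 : (1 : ℤ) ≤ ((Module.length (X.presheaf.stalk ξ) (F.presheaf.stalk ξ)).toNat : ℤ) := by exact_mod_cast h2
  nlinarith

theorem lenSum_neg (F : X.Modules) (d : ℕ) (c : X → ℤ) :
    lenSum d (fun ξ => - c ξ) F = - lenSum d c F := by
  unfold lenSum
  rw [← finsum_neg_distrib]
  refine finsum_congr fun ξ => ?_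
  unfold term
  split_ifs
  · ring
  · simp

theorem lenSum_le [IsNoetherian X] {F : X.Modules} (hF : Coh.IsCoh F)
    {d : ℕ} (hd : topologicalKrullDim (CohB1.support F) ≤ d) (c : X → ℤ)
    (hc : ∀ ξ ∈ CohB1.support F, topologicalKrullDim (closure ({ξ} : Set X)) = (d : WithBot ℕ∞) → c ξ ≤ 0)
    {ξ : X} (hξF : ξ ∈ CohB1.support F) (hξ : topologicalKrullDim (closure ({ξ} : Set X)) = (d : WithBot ℕ∞)) :
    lenSum d c F ≤ c ξ := by
  have h1 := le_lenSum hF hd (fun ξ => - c ξ) (fun ξ h1 h2 => by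
    have := hc ξ h1 h2
    omega) hξF hξ
  rw [lenSum_neg] at h1
  omega

theorem exists_neg (F : X.Modules) (d : ℕ) (c : X → ℤ) (h : lenSum d c F < 0) :
    ∃ ξ ∈ CohB1.support F, topologicalKrullDim (closure ({ξ} : Set X)) = (d : WithBot ℕ∞) ∧ c ξ < 0 := by
  by_contra hcon
  push Not at hcon
  have h1 : 0 ≤ lenSum d c F := finsum_nonneg (term_nonneg F d c hcon)
  omega

end sums

section

variable (k : Type u) [Field k] (X : Scheme.{u}) [X.Over (Spec (CommRingCat.of k))]

/-- The degree of `E` on the closure of `ξ`. -/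
noncomputable def cdeg (E : X.Modules) (r : ℕ) (ξ : X) : ℤ :=
  VarietyB.DegPhi.phi k X E r (ClSub.quotMod (vI ξ))

theorem cdeg_eq {E : X.Modules} {r : ℕ} (hE : FlatMod.IsFinLocFreeOfRank r E) (ξ : X) :
    cdeg k X E r ξ = @Curv2.deg k _ (vI ξ).subscheme ⟨(vI ξ).subschemeι ≫ (X ↘ Spec (CommRingCat.of k))⟩
      ((Scheme.Modules.pullback (vI ξ).subschemeι).obj E) r :=
  letI : (vI ξ).subscheme.Over (Spec (CommRingCat.of k)) := ⟨(vI ξ).subschemeι ≫ (X ↘ Spec (CommRingCat.of k))⟩
  VarietyB.DegPhi.phi_push k (vI ξ).subschemeι rfl (VarietyB.TensCoh.HasBases.of_isFinLocFreeOfRank hE)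

theorem phi_eq [IsProper (X ↘ Spec (CommRingCat.of k))] {E : X.Modules} {r : ℕ}
    (hE : FlatMod.IsFinLocFreeOfRank r E) {F : X.Modules} (hF : Coh.IsCoh F)
    (hd : topologicalKrullDim (CohB1.support F) ≤ (1 : ℕ)) :
    VarietyB.DegPhi.phi k X E r F = lenSum 1 (cdeg k X E r) F := by
  have hN : IsNoetherian X := VarietyB.DegFin.isNoetherian_of_isProper k X
  refine eq_lenSum (fun S hS h1 h2 h3 => VarietyB.DegPhi.phi_add k
    (VarietyB.TensCoh.HasBases.of_isFinLocFreeOfRank hE) S hS h1 h2 h3) 1 (fun G hG hGd => ?_) _ F hF ?_ hd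
  · refine VarietyB.DegPhi.phi_eq_zero k hE hG ?_
    generalize topologicalKrullDim (CohB1.support G) = a at hGd
    induction a using WithBot.recBotCoe with
    | bot => exact bot_le
    | coe a =>
      have h1 : a < 1 := by exact_mod_cast hGd
      have h2 : a = 0 := Order.lt_one_iff.mp h1
      rw [h2]
      exact le_rfl
  · intro ξ _ _
    exact ⟨ClSub.quotMod (vI ξ), isCoh_quotMod _, support_quotMod_vI ξ, length_quotMod_vI ξ, rfl⟩

end

section curves

variable {k : Type u} [Field k]

theorem deg_congr {D : Scheme.{u}} (s : D ⟶ Spec (CommRingCat.of k)) {L M : D.Modules} (e : L ≅ M) (r : ℕ) :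
    @Curv2.deg k _ D ⟨s⟩ L r = @Curv2.deg k _ D ⟨s⟩ M r := by
  let : D.Over (Spec (CommRingCat.of k)) := ⟨s⟩
  change Curv2.deg k D L r = Curv2.deg k D M r
  unfold Curv2.deg
  rw [VarietyB.DegPhi.euler_congr k e]

theorem deg_congr' {D : Scheme.{u}} {s s' : D ⟶ Spec (CommRingCat.of k)} (h : s = s') (L : D.Modules) (r : ℕ) :
    @Curv2.deg k _ D ⟨s⟩ L r = @Curv2.deg k _ D ⟨s'⟩ L r := by
  subst h
  rfl

/-- The degree of the inverse image under a dominant morphism of integral curves. -/
theorem exists_deg_dominant {X Y : Scheme.{u}} [IsIntegral X] [IsIntegral Y]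
    (p : Y ⟶ Spec (CommRingCat.of k)) [IsProper p]
    (f : X ⟶ Y) [IsProper f] [IsDominant f] (hX : topologicalKrullDim X = 1) (hY : topologicalKrullDim Y = 1) :
    ∃ n : ℤ, 0 < n ∧ ∀ (r : ℕ) (E : Y.Modules), FlatMod.IsFinLocFreeOfRank r E →
      @Curv2.deg k _ X ⟨f ≫ p⟩ ((Scheme.Modules.pullback f).obj E) r = n * @Curv2.deg k _ Y ⟨p⟩ E r := by
  have hfin : IsFinite f := K432.CurveNorm.isFinite_of_dominant p f hX hY
  have hN : IsLocallyNoetherian Y := LocallyOfFiniteType.isLocallyNoetherian p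
  have hNX : IsLocallyNoetherian X := LocallyOfFiniteType.isLocallyNoetherian f
  have hcoh : Coh.IsCoh ((Scheme.Modules.pushforward f).obj (Coh.structureModule X)) :=
    Groth.Agent.S0019.result f _ (CurvesB.UnitCoh.isCoh_structureModule X)
  refine ⟨(Module.finrank (Y.presheaf.stalk (genericPoint Y))
    (((Scheme.Modules.pushforward f).obj (Coh.structureModule X)).presheaf.stalk (genericPoint Y)) : ℤ), ?_, ?_⟩
  · have hfs : Module.Finite (Y.presheaf.stalk (genericPoint Y))
        (((Scheme.Modules.pushforward f).obj (Coh.structureModule X)).presheaf.stalk (genericPoint Y)) :=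
      Fdesc.FinStalk.finite_stalk_of_isCoh _ hcoh _
    have hnt : Nontrivial
        (((Scheme.Modules.pushforward f).obj (Coh.structureModule X)).presheaf.stalk (genericPoint Y)) := by
      refine K432.CurveDeg.nontrivial_stalk_push f _ fun V hV => ?_
      refine ⟨⟨genericPoint X, ?_⟩⟩
      change f (genericPoint X) ∈ V
      rw [K432.CurveNorm.map_genericPoint]
      exact hV
    have hfield : IsField (Y.presheaf.stalk (genericPoint Y)) := Field.toIsField (Y.functionField)
    let := hfield.toField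
    exact_mod_cast Module.finrank_pos
  · intro r E hE
    let : Y.Over (Spec (CommRingCat.of k)) := ⟨p⟩
    have : IsProper (Y ↘ (Spec (CommRingCat.of k))) := ‹IsProper p›
    have h1 := Groth.Agent.S1557.result k Y hY r E hE _ hcoh
    let : X.Over (Spec (CommRingCat.of k)) := ⟨f ≫ p⟩
    have h := VarietyB.DegPhi.phi_push k f rfl (n := r) (VarietyB.TensCoh.HasBases.of_isFinLocFreeOfRank hE)
    rw [VarietyB.DegPhi.phi] at h
    change Curv2.deg k X ((Scheme.Modules.pullback f).obj E) r = _ * Curv2.deg k Y E r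
    rw [← h]
    change Curv2.euler k Y (CohB1.tensorMod E ((Scheme.Modules.pushforward f).obj (Coh.structureModule X))) -
      (r : ℕ) * Curv2.euler k Y ((Scheme.Modules.pushforward f).obj (Coh.structureModule X)) = _
    rw [h1]
    ring

/-- Degrees of pullbacks under constant morphisms vanish. -/
theorem deg_const {X Y : Scheme.{u}} (s : X ⟶ Spec (CommRingCat.of k)) [IsProper s] (f : X ⟶ Y) (y : Y)
    (hf : ∀ x, f x = y) {r : ℕ} {E : Y.Modules} (hE : FlatMod.IsFinLocFreeOfRank r E) :
    @Curv2.deg k _ X ⟨s⟩ ((Scheme.Modules.pullback f).obj E) r = 0 := by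
  obtain ⟨U, hyU, ⟨e⟩⟩ := hE y
  obtain ⟨e'⟩ := K248.Basic.pull_free f U (by
    rintro _ ⟨x, rfl⟩
    rw [hf]
    exact hyU) e
  rw [deg_congr s e']
  let : X.Over (Spec (CommRingCat.of k)) := ⟨s⟩
  have : IsProper (X ↘ (Spec (CommRingCat.of k))) := ‹IsProper s›
  change Curv2.deg k X (FlatMod.freeMod X r) r = 0
  unfold Curv2.deg
  rw [K420.LenEuler.euler_freeMod, sub_self]

theorem dim_vI {X : Scheme.{u}} (ξ : X) :
    topologicalKrullDim (vI ξ).subscheme = topologicalKrullDim (closure ({ξ} : Set X)) := by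
  rw [K432.NefBasic.topologicalKrullDim_subscheme]
  exact congrArg (fun S : Set X => topologicalKrullDim S) (K432.CurveLift.support_ptIdeal ξ)

/-- The closure of a point with one-dimensional closure is the image of a smooth proper curve. -/
theorem exists_curve [IsAlgClosed k] {X : Scheme.{u}} [X.Over (Spec (CommRingCat.of k))]
    [IsProper (X ↘ Spec (CommRingCat.of k))] (ξ : X) (hξ : topologicalKrullDim (closure ({ξ} : Set X)) = 1) :
    ∃ (T : Scheme.{u}) (f : T ⟶ X), Curve.IsSmoothProperCurve k T (f ≫ (X ↘ Spec (CommRingCat.of k))) ∧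
      Set.range f = closure {ξ} ∧ ∃ n : ℤ, 0 < n ∧ ∀ (r : ℕ) (E : X.Modules), FlatMod.IsFinLocFreeOfRank r E →
        @Curv2.deg k _ T ⟨f ≫ (X ↘ Spec (CommRingCat.of k))⟩ ((Scheme.Modules.pullback f).obj E) r =
          n * cdeg k X E r ξ := by
  let p : (vI ξ).subscheme ⟶ Spec (CommRingCat.of k) := (vI ξ).subschemeι ≫ (X ↘ Spec (CommRingCat.of k))
  have hp : IsProper p := inferInstance
  have hdim : topologicalKrullDim (vI ξ).subscheme = 1 := by rw [dim_vI, hξ]
  obtain ⟨D, ν, hfin, hsurj, hint, hD, hreg, -⟩ := K432.CurveNorm.exists_regular_model p hdim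
  have hdom : IsDominant ν := inferInstance
  obtain ⟨n, hn, hn'⟩ := exists_deg_dominant p ν hD hdim
  have hpr : IsProper ((ν ≫ (vI ξ).subschemeι) ≫ (X ↘ Spec (CommRingCat.of k))) := by
    rw [Category.assoc]
    exact (inferInstance : IsProper (ν ≫ p))
  refine ⟨D, ν ≫ (vI ξ).subschemeι, ⟨hpr, Ega2.SmoothBdry.smooth_of_regular _ hreg, hint, hD⟩, ?_, n, hn, ?_⟩
  · rw [← range_vI ξ]
    ext x
    constructor
    · rintro ⟨d, rfl⟩
      exact ⟨ν d, by simp⟩
    · rintro ⟨c, rfl⟩
      obtain ⟨d, rfl⟩ := hsurj.surj c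
      exact ⟨d, by simp⟩
  · intro r E hE
    have h1 := hn' r _ (PerfB.FibreConc.isFinLocFreeOfRank_pullback (vI ξ).subschemeι hE)
    have e1 : (Scheme.Modules.pullback ν).obj ((Scheme.Modules.pullback (vI ξ).subschemeι).obj E) ≅
        (Scheme.Modules.pullback (ν ≫ (vI ξ).subschemeι)).obj E :=
      (Scheme.Modules.pullbackComp ν _).app E
    rw [deg_congr _ e1] at h1
    rw [deg_congr' (Category.assoc _ _ _), h1, cdeg_eq k X hE]

/-- The degree of the inverse image of a vector bundle under a morphism from a proper integral curve. -/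
theorem deg_map {X : Scheme.{u}} [X.Over (Spec (CommRingCat.of k))]
    [IsProper (X ↘ Spec (CommRingCat.of k))] {C : Scheme.{u}} [IsIntegral C] (hC : topologicalKrullDim C = 1)
    (f : C ⟶ X) [IsProper (f ≫ (X ↘ Spec (CommRingCat.of k)))] :
    (∀ (r : ℕ) (E : X.Modules), FlatMod.IsFinLocFreeOfRank r E →
      @Curv2.deg k _ C ⟨f ≫ (X ↘ Spec (CommRingCat.of k))⟩ ((Scheme.Modules.pullback f).obj E) r = 0) ∨
    (topologicalKrullDim (closure ({f (genericPoint C)} : Set X)) = 1 ∧
      ∃ n : ℤ, 0 < n ∧ ∀ (r : ℕ) (E : X.Modules), FlatMod.IsFinLocFreeOfRank r E →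
        @Curv2.deg k _ C ⟨f ≫ (X ↘ Spec (CommRingCat.of k))⟩ ((Scheme.Modules.pullback f).obj E) r =
          n * cdeg k X E r (f (genericPoint C))) := by
  obtain ⟨g, hg, hdom⟩ := K432.NefBasic.exists_factor f
  set q := X ↘ Spec (CommRingCat.of k) with hq
  have hCr : CycB.RelDim.rtd (f ≫ q) (genericPoint C) = (1 : ℕ) :=
    (K432.CurveNorm.dim_eq_iff (f ≫ q) 1).mp (by rw [hC]; rfl)
  obtain ⟨n, hn, hn'⟩ := K432.CurveLift.exists_dim_closure q (f (genericPoint C))
  have hn1 : n ≤ 1 := by
    rw [CycB.RelDim.rtd_comp, hn] at hCr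
    have : (n : Cardinal.{u}) ≤ (1 : ℕ) := by rw [← hCr]; exact le_self_add
    exact_mod_cast this
  have hprop : IsProper g := by
    have : IsProper (g ≫ ((vI (f (genericPoint C))).subschemeι ≫ q)) := by
      rw [← Category.assoc, hg]; infer_instance
    exact IsProper.of_comp g ((vI (f (genericPoint C))).subschemeι ≫ q)
  rcases Nat.le_one_iff_eq_zero_or_eq_one.mp hn1 with h0 | h1
  · left
    have hconst : ∀ x, f x = f (genericPoint C) := by
      intro x
      by_contra hne
      have h2 : f (genericPoint C) ⤳ f x := (genericPoint_specializes x).map f.continuous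
      have h3 := CycB.RelDim.rtd_lt_of_specializes q h2 (Ne.symm hne) (Subsingleton.elim _ _)
      rw [hn, h0] at h3
      exact absurd h3 (by simp)
    exact fun r E hE => deg_const (f ≫ q) f _ hconst hE
  · right
    refine ⟨by rw [hn', h1]; rfl, ?_⟩
    have hdimI : topologicalKrullDim (vI (f (genericPoint C))).subscheme = 1 := by
      rw [dim_vI, hn', h1]; rfl
    obtain ⟨m, hm, hmL⟩ := exists_deg_dominant ((vI (f (genericPoint C))).subschemeι ≫ q) g hC hdimI
    refine ⟨m, hm, fun r E hE => ?_⟩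
    have h4 := hmL r _ (PerfB.FibreConc.isFinLocFreeOfRank_pullback (vI (f (genericPoint C))).subschemeι hE)
    have e1 : (Scheme.Modules.pullback g).obj
        ((Scheme.Modules.pullback (vI (f (genericPoint C))).subschemeι).obj E) ≅
        (Scheme.Modules.pullback f).obj E :=
      (Scheme.Modules.pullbackComp g _).app E ≪≫ (Scheme.Modules.pullbackCongr hg).app E
    have e2 : g ≫ (vI (f (genericPoint C))).subschemeι ≫ q = f ≫ q := by
      rw [← Category.assoc, hg]
    rw [deg_congr _ e1, deg_congr' e2] at h4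
    rw [h4, cdeg_eq k X hE]

end curves

end K792.CurveSum
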