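import Groth.Agent.ShStab.K847.Cut
import Groth.Agent.Coherent.K49.RegTwistMain
import Groth.Agent.Variety.K424.IntSum
import Groth.Agent.Variety.K433.GenFinite
import Groth.Agent.VarietyB.DegPhi
import Groth.Agent.Ega4A.RegCM
import Groth.Agent.CycB.PushStalk

/-!
# Successive cuts of a coherent module by sections of an invertible module

* `Cut N G₀ i G`: `G` is obtained from `G₀` by `i` successive steps `G ↦ coker (s : G ⟶ N ⊗ G)`, where the section `s`
  of `N` generates at the associated points of `G`.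
* `Cut.phi_eq`: the value of an additive function on `G` only depends on `i`.
* `Cut.dim_le`: the dimension of the support drops by one at every step.
* `Cut.depth_add`: the depth drops by one at every step at the points of the support.
* `exists_special`: cuts of `O_X` with support containing a given set `B`.
* `exists_general`: simultaneous cuts of two modules.

Author: helper792
-/

set_option autoImplicit false
universe u
open CategoryTheory CategoryTheory.Limits AlgebraicGeometry TopologicalSpace Opposite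

namespace K792.Cuts

open Groth.Agent Groth.Agent.Fdesc.LocGen Groth.Agent.Fga.RegSec Groth.Agent.Ega2

variable {X : Scheme.{u}}

/-- `G` is obtained from `G₀` by `i` successive cuts by sections of `N`. -/
inductive Cut (N : X.Modules) (G₀ : X.Modules) : ℕ → X.Modules → Prop
  | zero : Cut N G₀ 0 G₀
  | succ {i : ℕ} {G : X.Modules} (s : Coh.structureModule X ⟶ N) (h : Cut N G₀ i G)
      (hs : AssSch.Ass G ⊆ CohB1.genLocus N s) : Cut N G₀ (i + 1) (cokernel (mulS s G))

namespace Cut

variable {N G₀ : X.Modules}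

theorem isCoh [IsLocallyNoetherian X] (hN : PicF.IsInvertible N) (hG₀ : Coh.IsCoh G₀) {i : ℕ} {G : X.Modules}
    (h : Cut N G₀ i G) : Coh.IsCoh G := by
  induction h with
  | zero => exact hG₀
  | succ s h hs ih => exact K847.Cut.isCoh_cokernel_mulS hN s ih

/-- The value of an additive function on the cuts only depends on the number of cuts. -/
theorem phi_eq [IsLocallyNoetherian X] (hN : PicF.IsInvertible N) (hG₀ : Coh.IsCoh G₀) {χ : X.Modules → ℤ}
    (hχ : Fga.ChiBasic.IsAdd χ) (i : ℕ) : ∀ (G G' : X.Modules), Cut N G₀ i G → Cut N G₀ i G' →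
      ∀ P : X.Modules, PicF.IsInvertible P → χ (CohB1.tensorMod P G) = χ (CohB1.tensorMod P G') := by
  have key : ∀ (G : X.Modules) (s : Coh.structureModule X ⟶ N), Coh.IsCoh G → AssSch.Ass G ⊆ CohB1.genLocus N s →
      ∀ P : X.Modules, PicF.IsInvertible P → χ (CohB1.tensorMod P (cokernel (mulS s G))) =
        χ (CohB1.tensorMod (CohB1.tensorMod P N) G) - χ (CohB1.tensorMod P G) := by
    intro G s hG hs P hP
    have hm := K847.Cut.mono_mulS hN s hG hs
    have hNG := K847.Cut.isCoh_tens hN hG
    have hS : (ShortComplex.mk (mulS s G) (cokernel.π (mulS s G)) (cokernel.condition _)).ShortExact :=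
      { exact := ShortComplex.exact_cokernel _
        mono_f := hm
        epi_g := inferInstanceAs (Epi (cokernel.π (mulS s G))) }
    have h1 := Fga.SnapperTwist.isAdd_twist hχ hP _ hS hG hNG (K847.Cut.isCoh_cokernel_mulS hN s hG)
    simp only at h1
    have h2 := Fga.SnapperTwist.isCoh_tensor' hP hNG
    have h3 := Fga.ChiBasic.chi_iso hχ (Tens.assoc P N G).symm h2
    omega
  induction i with
  | zero =>
    intro G G' h h' P hP
    cases h
    cases h'
    rfl
  | succ i ih =>
    intro G G' h h' P hP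
    cases h with
    | succ s h hs =>
      cases h' with
      | succ s' h' hs' =>
        have hPN : PicF.IsInvertible (CohB1.tensorMod P N) := isInvertible_tensorMod hP hN
        rw [key _ s (h.isCoh hN hG₀) hs P hP, key _ s' (h'.isCoh hN hG₀) hs' P hP, ih _ _ h h' P hP,
          ih _ _ h h' _ hPN]

theorem dim_le [IsLocallyNoetherian X] (hN : PicF.IsInvertible N) (hG₀ : Coh.IsCoh G₀) {i : ℕ} {G : X.Modules}
    (h : Cut N G₀ i G) : ∀ d : ℕ, topologicalKrullDim (CohB1.support G₀) ≤ ((d + i : ℕ) : WithBot ℕ∞) →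
      topologicalKrullDim (CohB1.support G) ≤ (d : WithBot ℕ∞) := by
  induction h with
  | zero => exact fun d hd => hd
  | @succ i G s h hs ih =>
    intro d hd
    refine Coherent.K49.RegTwist.dim_drop hN (h.isCoh hN hG₀) s (fun x hx hx' => ?_) d (ih (d + 1) (by
      have e : d + 1 + i = d + (i + 1) := by omega
      rwa [e]))
    exact (Pi1C.ZeroScheme.mem_support_iff s hN x).1 hx' (hs hx)

theorem support_subset [IsLocallyNoetherian X] (hN : PicF.IsInvertible N) (hG₀ : Coh.IsCoh G₀) {i : ℕ}
    {G : X.Modules} (h : Cut N G₀ i G) : CohB1.support G ⊆ CohB1.support G₀ := by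
  induction h with
  | zero => exact subset_rfl
  | succ s h hs ih =>
    rw [support_cokernel_mulS s _ hN (h.isCoh hN hG₀).2]
    exact Set.sdiff_subset.trans ih

/-- The depth of the cuts of the structure sheaf of a regular scheme at the points of their supports. -/
theorem le_depth [IsLocallyNoetherian X] (hN : PicF.IsInvertible N) {x : X}
    (hreg : IsRegularLocalRing (X.presheaf.stalk x)) {i : ℕ}
    {G : X.Modules} (h : Cut N (Coh.structureModule X) i G) (hx : x ∈ CohB1.support G) :
    ∀ m : ℕ, ((m + i : ℕ) : WithBot ℕ∞) ≤ ringKrullDim (X.presheaf.stalk x) →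
      (m : ℕ∞) ≤ LocCoh.depth (X.presheaf.stalk x) (G.presheaf.stalk x) := by
  induction h with
  | zero =>
    intro m hm
    rw [← Ega4B.DepthBasic.depth_congr (CycB.PushStalk.unitStalk X x)]
    have h1 := (Ega4A.RegCM.isCohenMacaulayLocalRing_of_isRegularLocalRing (X.presheaf.stalk x)).supportDim_eq_depth
    rw [Module.supportDim_self_eq_ringKrullDim] at h1
    rw [h1] at hm
    exact_mod_cast hm
  | @succ i G s h hs ih =>
    intro m hm
    have hG := h.isCoh hN (Fdesc.StructMod.isCoh_structureModule X)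
    have hmono := K847.Cut.mono_mulS hN s hG hs
    have hfin : Module.Finite (X.presheaf.stalk x) (G.presheaf.stalk x) := Ega1.FTStalkFin.stalk_finite G hG.2 x
    rw [support_cokernel_mulS s _ hN hG.2] at hx
    obtain ⟨r, hr, hreg', ⟨e⟩⟩ := K847.Cut.exists_stalk_cokernel hN s G x
    have hrm : r ∈ IsLocalRing.maximalIdeal (X.presheaf.stalk x) :=
      (IsLocalRing.mem_maximalIdeal r).mpr fun hu => hx.2 (hr.mpr hu)
    rw [← Ega4B.DepthBasic.depth_congr e]
    have h1 := ih hx.1 (m + 1) (by
      have e : m + 1 + i = m + (i + 1) := by omega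
      rwa [e])
    exact (Localalg.Depth.natCast_succ_le_idealDepth_iff_quotSMulTop _ _ r hrm hreg' m).1 h1

/-- A point of codimension greater than `i` is not associated to a cut of order `i` of the structure sheaf of a
regular scheme. -/
theorem not_mem_ass [IsLocallyNoetherian X] (hN : PicF.IsInvertible N) {x : X}
    (hreg : IsRegularLocalRing (X.presheaf.stalk x)) {i : ℕ}
    {G : X.Modules} (h : Cut N (Coh.structureModule X) i G)
    (hi : ((1 + i : ℕ) : WithBot ℕ∞) ≤ ringKrullDim (X.presheaf.stalk x)) : x ∉ AssSch.Ass G := by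
  intro hx
  have hG := h.isCoh hN (Fdesc.StructMod.isCoh_structureModule X)
  have hnt : Nontrivial (G.presheaf.stalk x) := by
    by_contra hcon
    rw [not_nontrivial_iff_subsingleton] at hcon
    exact not_isAssociatedPrime_of_subsingleton hx
  have hfin : Module.Finite (X.presheaf.stalk x) (G.presheaf.stalk x) := Ega1.FTStalkFin.stalk_finite G hG.2 x
  have h1 := h.le_depth hN hreg (x := x) (fun hs => not_subsingleton _ hs) 1 hi
  exact S2085.one_le_depth_iff.mp (by exact_mod_cast h1) hx

end Cut

section exist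

variable (k : Type u) [Field k] [X.Over (Spec (CommRingCat.of k))] {N : X.Modules}

theorem mem_genLocus_iff (s : Coh.structureModule X ⟶ N) {U : X.Opens} {x : X} (hx : x ∈ U) {e : Γ(N, U)}
    (he : IsGen e) {a : Γ(X, U)} (ha : sec s U = a • e) :
    x ∈ CohB1.genLocus N s ↔ IsUnit (X.presheaf.germ U x hx a) := by
  rw [← Scheme.mem_basicOpen _ _ _ hx, ← genLocus_inf_eq s he ha]
  exact ⟨fun h => ⟨h, hx⟩, fun h => h.1⟩

/-- Linear combinations of sections vanishing at a point vanish there. -/
theorem notMem_comb (hN : PicF.IsInvertible N) (s t : Coh.structureModule X ⟶ N) (a : k) {x : X}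
    (hs : x ∉ CohB1.genLocus N s) (ht : x ∉ CohB1.genLocus N t) :
    x ∉ CohB1.genLocus N (K433.GenFinite.comb k s t a) := by
  obtain ⟨U, e, hxU, he⟩ := (isInvertible_iff N).mp hN x
  obtain ⟨f, hf⟩ := he.exists_eq (sec s U)
  obtain ⟨g, hg⟩ := he.exists_eq (sec t U)
  have hc : sec (K433.GenFinite.comb k s t a) U =
      (f + ores (le_top : U ≤ ⊤) (K433.GenFinite.scal k a) * g) • e := by
    rw [K433.GenFinite.sec_comb, hf, hg, add_smul, mul_smul]
  rw [mem_genLocus_iff s hxU he hf, ← mem_nonunits_iff, ← IsLocalRing.mem_maximalIdeal] at hs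
  rw [mem_genLocus_iff t hxU he hg, ← mem_nonunits_iff, ← IsLocalRing.mem_maximalIdeal] at ht
  rw [mem_genLocus_iff _ hxU he hc, ← mem_nonunits_iff, ← IsLocalRing.mem_maximalIdeal, map_add, map_mul]
  exact Ideal.add_mem _ hs (Ideal.mul_mem_left _ _ ht)

include k in
/-- A section vanishing on `B` and generating at finitely many points outside `B`. -/
theorem exists_sec [Infinite k] (hN : PicF.IsInvertible N) (B : Set X)
    (hB : ∀ x, x ∉ B → ∃ s : Coh.structureModule X ⟶ N, x ∈ CohB1.genLocus N s ∧ ∀ b ∈ B, b ∉ CohB1.genLocus N s)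
    (Z : Set X) (hZ : Z.Finite) (hZB : Disjoint Z B) :
    ∃ s : Coh.structureModule X ⟶ N, Z ⊆ CohB1.genLocus N s ∧ ∀ b ∈ B, b ∉ CohB1.genLocus N s := by
  induction Z, hZ using Set.Finite.induction_on with
  | empty =>
    refine ⟨0, Set.empty_subset _, fun b _ => ?_⟩
    rw [Ega2.FiniteSet.genLocus_zero]
    exact fun h => h
  | @insert x Z _ hZ ih =>
    rw [Set.disjoint_insert_left] at hZB
    obtain ⟨s, hs, hsB⟩ := ih hZB.2
    obtain ⟨t, ht, htB⟩ := hB x hZB.1
    have hfin : (⋃ z ∈ insert x Z, {a : k | z ∉ CohB1.genLocus N (K433.GenFinite.comb k s t a)}).Finite := by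
      refine Set.Finite.biUnion (hZ.insert x) fun z hz => ?_
      refine (K433.GenFinite.subsingleton_bad k hN s t z ?_).finite
      rcases hz with rfl | hz
      · exact Or.inr ht
      · exact Or.inl (hs hz)
    obtain ⟨a, ha⟩ := hfin.exists_notMem
    refine ⟨K433.GenFinite.comb k s t a, fun z hz => ?_, fun b hb => notMem_comb k hN s t a (hsB b hb) (htB b hb)⟩
    by_contra h
    exact ha (Set.mem_biUnion hz h)

include k in
/-- Cuts of the structure sheaf of a regular scheme with support containing `B`. -/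
theorem exists_special [Infinite k] [IsNoetherian X] (hN : PicF.IsInvertible N) (B : Set X)
    (hB : ∀ x, x ∉ B → ∃ s : Coh.structureModule X ⟶ N, x ∈ CohB1.genLocus N s ∧ ∀ b ∈ B, b ∉ CohB1.genLocus N s)
    (hreg : ∀ b ∈ B, IsRegularLocalRing (X.presheaf.stalk b)) (m : ℕ)
    (hm : ∀ b ∈ B, (m : WithBot ℕ∞) ≤ ringKrullDim (X.presheaf.stalk b)) (i : ℕ) (hi : i ≤ m) :
    ∃ G : X.Modules, Cut N (Coh.structureModule X) i G ∧ B ⊆ CohB1.support G := by
  induction i with
  | zero =>
    refine ⟨_, .zero, ?_⟩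
    intro b _ hs
    exact not_subsingleton (X.presheaf.stalk b) (@Equiv.subsingleton _ _ (CycB.PushStalk.unitStalk X b).toEquiv hs)
  | succ i ih =>
    obtain ⟨G, hG, hBG⟩ := ih (by omega)
    have hGc := hG.isCoh hN (Fdesc.StructMod.isCoh_structureModule X)
    obtain ⟨s, hs, hsB⟩ := exists_sec k hN B hB (AssSch.Ass G) (Fdesc.SubFilt.finite_ass hGc) (by
      rw [Set.disjoint_left]
      intro x hx hxB
      refine hG.not_mem_ass hN (hreg x hxB) (le_trans ?_ (hm x hxB)) hx
      exact_mod_cast (by omega : 1 + i ≤ m))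
    refine ⟨_, .succ s hG hs, ?_⟩
    rw [support_cokernel_mulS s _ hN hGc.2]
    exact fun b hb => ⟨hBG hb, hsB b hb⟩

include k in
/-- Simultaneous cuts of two modules. -/
theorem exists_general [Infinite k] [IsNoetherian X] (hN : PicF.IsInvertible N)
    (hg : ∀ x, ∃ s : Coh.structureModule X ⟶ N, x ∈ CohB1.genLocus N s) (G₀ H₀ : X.Modules) (hG₀ : Coh.IsCoh G₀) (hH₀ : Coh.IsCoh H₀)
    (hs₀ : CohB1.support H₀ ⊆ CohB1.support G₀) (i : ℕ) :
    ∃ G H : X.Modules, Cut N G₀ i G ∧ Cut N H₀ i H ∧
      CohB1.support H = CohB1.support G ∩ CohB1.support H₀ := by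
  induction i with
  | zero => exact ⟨_, _, .zero, .zero, (Set.inter_eq_right.2 hs₀).symm⟩
  | succ i ih =>
    obtain ⟨G, H, hG, hH, hGH⟩ := ih
    have hGc := hG.isCoh hN hG₀
    have hHc := hH.isCoh hN hH₀
    obtain ⟨s, hs, -⟩ := exists_sec k hN ∅ (fun x _ => by
      obtain ⟨s, hs⟩ := hg x
      exact ⟨s, hs, fun b hb => absurd hb (Set.notMem_empty b)⟩) (AssSch.Ass G ∪ AssSch.Ass H)
      ((Fdesc.SubFilt.finite_ass hGc).union (Fdesc.SubFilt.finite_ass hHc)) (Set.disjoint_empty _)
    refine ⟨_, _, .succ s hG (Set.subset_union_left.trans hs), .succ s hH (Set.subset_union_right.trans hs), ?_⟩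
    rw [support_cokernel_mulS s _ hN hGc.2, support_cokernel_mulS s _ hN hHc.2, hGH]
    ext x
    simp only [Set.mem_sdiff, Set.mem_inter_iff]
    tauto

end exist

end K792.Cuts
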