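import Groth.Agent.Curves.K792.Cuts
import Groth.Agent.Curves.K792.CurveSum
import Groth.Agent.Variety.K428.KerSec
import Groth.Agent.Variety.K432.AmpCurve
import Groth.Agent.NonsingVar.K284.OmegaReg
import Groth.Agent.NonPure.K981.ZeroDim
import Groth.Agent.CycA.IntLocal
import Groth.Agent.VarietyA.AmpleField
import Groth.Agent.Sga5.AmpleFib
import Groth.Agent.S16504

/-!
# Nef anticanonical class: numerically trivial or covered by rational curves

`main : Stmt503 → Stmt505`, the deduction of S16505 from S16503 (and S16504).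

Author: helper792
-/

set_option autoImplicit false
universe u
open CategoryTheory CategoryTheory.Limits AlgebraicGeometry TopologicalSpace Opposite

namespace K792.NefMain

open Groth.Agent K424.LenSum K424.IntSum K792.Cuts K792.CurveSum

/-- The statement of S16503. -/
def Stmt503 : Prop := ∀
    (k : Type u) [Field k] [IsAlgClosed k]
    (X : Scheme.{u}) [X.Over (Spec (CommRingCat.of k))] [IsIntegral X]
    (N : ℕ) (ι : X ⟶ CohB1.ProjSpace N k) [IsClosedImmersion ι]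
    (_ : ι ≫ CohB1.ProjSpace.toSpec N k = X ↘ Spec (CommRingCat.of k))
    (n : ℕ) (_ : topologicalKrullDim X = n)
    (C : Scheme.{u}) [C.Over (Spec (CommRingCat.of k))] (_ : Curve.IsSmoothProperCurve k C (C ↘ Spec (CommRingCat.of k)))
    (f : C ⟶ X) (_ : f ≫ (X ↘ Spec (CommRingCat.of k)) = C ↘ Spec (CommRingCat.of k))
    (U : X.Opens) (_ : Set.range f.base ⊆ (U : Set X))
    (_ : Smooth (U.ι ≫ (X ↘ Spec (CommRingCat.of k))))
    (_ : Curv2.deg k C ((Scheme.Modules.pullback f).obj (Omega.sheaf (X ↘ Spec (CommRingCat.of k)))) n < 0)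
    (c : C) (_ : IsClosed ({c} : Set C)),
    ∃ g : CohB1.ProjSpace 1 k ⟶ X, g ≫ (X ↘ Spec (CommRingCat.of k)) = CohB1.ProjSpace.toSpec 1 k ∧
      (¬ ∃ x : X, Set.range g.base ⊆ {x}) ∧ f.base c ∈ Set.range g.base ∧
      Curv2.deg k (CohB1.ProjSpace 1 k)
          ((Scheme.Modules.pullback (g ≫ ι)).obj (Twist.twistProjSpace N k 1)) 1 *
        (- Curv2.deg k C ((Scheme.Modules.pullback f).obj (Omega.sheaf (X ↘ Spec (CommRingCat.of k)))) n) ≤
      2 * n * Curv2.deg k C ((Scheme.Modules.pullback (f ≫ ι)).obj (Twist.twistProjSpace N k 1)) 1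

section

/-- Sections of a power of an ample module. -/
theorem exists_power {X : Scheme.{u}} [IsNoetherian X] {L : X.Modules} (hL : CohB1.IsAmple L) (B : Set X)
    (hB : IsClosed B) : ∃ N : X.Modules, PicF.IsInvertible N ∧
      (∀ x, ∃ s : Coh.structureModule X ⟶ N, x ∈ CohB1.genLocus N s) ∧
      (∀ x, x ∉ B → ∃ s : Coh.structureModule X ⟶ N, x ∈ CohB1.genLocus N s ∧ ∀ b ∈ B, b ∉ CohB1.genLocus N s) := by
  let W : X.Opens := ⟨Bᶜ, hB.isOpen_compl⟩
  have hempty : IsEmpty (⊤ : X.IdealSheafData).subscheme := inferInstance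
  obtain ⟨n₀, hn₀⟩ := K428.KerSec.exists_family (⊤ : X.IdealSheafData).subschemeι hL ⊤ isCompact_univ
    (fun z => hempty.elim z) (fun _ => ∅) (fun _ _ => Set.finite_empty)
  obtain ⟨n₁, hn₁⟩ := K428.KerSec.exists_family (⊤ : X.IdealSheafData).subschemeι hL W
    (NoetherianSpace.isCompact _) (fun z => hempty.elim z) (fun _ => ∅) (fun _ _ => Set.finite_empty)
  refine ⟨CohB1.tensorPow L (max n₀ n₁), Fdesc.LocGen.isInvertible_tensorPow hL.1 _, fun x => ?_, fun x hx => ?_⟩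
  · obtain ⟨V, hxV, -, -, v, hv, -⟩ := hn₀ _ (le_max_left _ _) x trivial
    exact ⟨v, hv ▸ hxV⟩
  · obtain ⟨V, hxV, hVW, -, v, hv, -⟩ := hn₁ _ (le_max_right _ _) x hx
    exact ⟨v, hv ▸ hxV, fun b hb hb' => hVW (hv ▸ hb') hb⟩

/-- A proper closed subset of an irreducible space of dimension `n` has dimension at most `n - 1`. -/
theorem dim_closed_le {X : Type*} [TopologicalSpace X] [IrreducibleSpace X] {n : ℕ}
    (hn : topologicalKrullDim X = ((n + 1 : ℕ) : WithBot ℕ∞)) {Z : Set X} (hZ : IsClosed Z) (hne : Z ≠ Set.univ) :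
    topologicalKrullDim Z ≤ (n : WithBot ℕ∞) := by
  refine Fga.DimCut.dim_le_of_forall_not_subset Z hZ (fun T hT hTZ => hne ?_) n hn.le
  rw [irreducibleComponents_eq_singleton, Set.mem_singleton_iff] at hT
  rw [hT] at hTZ
  exact Set.eq_univ_of_univ_subset hTZ

variable (k : Type u) [Field k] {X : Scheme.{u}} [X.Over (Spec (CommRingCat.of k))]

theorem phi_eq_of_cut [IsProper (X ↘ Spec (CommRingCat.of k))] {N : X.Modules} (hN : PicF.IsInvertible N)
    {E : X.Modules} {r : ℕ} (hE : FlatMod.IsFinLocFreeOfRank r E) {i : ℕ} {G G' : X.Modules}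
    (h : Cut N (Coh.structureModule X) i G) (h' : Cut N (Coh.structureModule X) i G') :
    VarietyB.DegPhi.phi k X E r G = VarietyB.DegPhi.phi k X E r G' := by
  have hX : IsNoetherian X := VarietyB.DegFin.isNoetherian_of_isProper k X
  have h1 := Cut.phi_eq hN (Fdesc.StructMod.isCoh_structureModule X)
    (χ := VarietyB.DegPhi.phi k X E r) (fun S hS h1 h2 h3 => VarietyB.DegPhi.phi_add k
    (VarietyB.TensCoh.HasBases.of_isFinLocFreeOfRank hE) S hS h1 h2 h3) i G G' h h' (Coh.structureModule X)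
    Fdesc.LocGen.isInvertible_structureModule
  rw [VarietyB.DegPhi.phi_congr k E r (Ega2.Tens.lunit G), VarietyB.DegPhi.phi_congr k E r (Ega2.Tens.lunit G')] at h1
  exact h1

/-- Curves of bounded degree and negative canonical degree through a general point. -/
theorem core [IsAlgClosed k] [IsIntegral X] [IsProper (X ↘ Spec (CommRingCat.of k))]
    (hreg : ∀ x : X, IsRegularLocalRing (X.presheaf.stalk x)) {L : X.Modules} (hL : CohB1.IsAmple L)
    (n : ℕ) (hn : topologicalKrullDim X = n) {E : X.Modules} {r : ℕ} (hE : FlatMod.IsFinLocFreeOfRank r E)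
    (hnef : ∀ ξ : X, topologicalKrullDim (closure ({ξ} : Set X)) = 1 → cdeg k X E r ξ ≤ 0)
    (hLpos : ∀ ξ : X, topologicalKrullDim (closure ({ξ} : Set X)) = 1 → 0 ≤ cdeg k X L 1 ξ)
    (ξ₁ : X) (hξ₁ : topologicalKrullDim (closure ({ξ₁} : Set X)) = 1) (hneg : cdeg k X E r ξ₁ < 0) :
    ∃ D : ℤ, ∀ Z : Set X, IsClosed Z → Z ≠ Set.univ → ∃ ξ : X, ξ ∉ Z ∧
      topologicalKrullDim (closure ({ξ} : Set X)) = 1 ∧ cdeg k X E r ξ < 0 ∧ cdeg k X L 1 ξ ≤ D := by
  have hX : IsNoetherian X := VarietyB.DegFin.isNoetherian_of_isProper k X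
  have hO := Fdesc.StructMod.isCoh_structureModule X
  have hL1 : FlatMod.IsFinLocFreeOfRank 1 L := Ega2.QCohLocal.isFinLocFreeOfRank_one_iff.mpr hL.1
  -- `n = m + 1`
  obtain ⟨m, rfl⟩ : ∃ m, n = m + 1 := by
    refine ⟨n - 1, ?_⟩
    have h1 : topologicalKrullDim (closure ({ξ₁} : Set X)) ≤ topologicalKrullDim X :=
      topologicalKrullDim_subspace_le X _
    rw [hξ₁, hn] at h1
    have h2 : 1 ≤ n := by exact_mod_cast h1
    omega
  obtain ⟨N, hN, hg, hB⟩ := exists_power hL (closure {ξ₁}) isClosed_closure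
  -- the special cut
  obtain ⟨G, hG, hGB⟩ := exists_special k hN (closure {ξ₁}) hB (fun b _ => hreg b) m (fun b hb => by
    obtain ⟨a, t, n', h1, -, h3, h4, h5⟩ := CycA.IntLocal.exists_dims (X ↘ Spec (CommRingCat.of k)) b
    have h6 : topologicalKrullDim (closure ({b} : Set X)) ≤ topologicalKrullDim (closure ({ξ₁} : Set X)) :=
      Fga.DimLt.topologicalKrullDim_mono (closure_minimal (Set.singleton_subset_iff.mpr hb) isClosed_closure)
    rw [h3, hξ₁] at h6
    have h7 : t ≤ 1 := by exact_mod_cast h6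
    rw [hn] at h4
    have h8 : m + 1 = n' := by exact_mod_cast h4
    rw [h1]
    exact_mod_cast (by omega : m ≤ a)) m le_rfl
  have hdimO : topologicalKrullDim (CohB1.support (Coh.structureModule X)) ≤ ((m + 1 : ℕ) : WithBot ℕ∞) :=
    (topologicalKrullDim_subspace_le X _).trans hn.le
  have hdim : ∀ G : X.Modules, Cut N (Coh.structureModule X) m G →
      topologicalKrullDim (CohB1.support G) ≤ ((1 : ℕ) : WithBot ℕ∞) := fun G hG =>
    hG.dim_le hN hO 1 (by rw [add_comm]; exact hdimO)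
  have hφ : ∀ G : X.Modules, Cut N (Coh.structureModule X) m G → VarietyB.DegPhi.phi k X E r G < 0 := by
    intro G' hG'
    rw [phi_eq_of_cut k hN hE hG' hG, phi_eq k X hE (hG.isCoh hN hO) (hdim G hG)]
    exact (lenSum_le (hG.isCoh hN hO) (hdim G hG) _ (fun ξ _ h => hnef ξ h) (hGB (subset_closure rfl)) hξ₁).trans_lt
      hneg
  refine ⟨VarietyB.DegPhi.phi k X L 1 G, fun Z hZ hZu => ?_⟩
  let I : X.IdealSheafData := Scheme.IdealSheafData.vanishingIdeal ⟨Z, hZ⟩
  have hI : CohB1.support (ClSub.quotMod I) = Z := by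
    rw [K981.ZeroDim.support_quotMod, Scheme.IdealSheafData.coe_support_vanishingIdeal]
    rfl
  obtain ⟨G', H, hG', hH, hGH⟩ := exists_general k hN hg (Coh.structureModule X) (ClSub.quotMod I) hO
    (isCoh_quotMod I) (fun x _ hs =>
      not_subsingleton (X.presheaf.stalk x) (@Equiv.subsingleton _ _ (CycB.PushStalk.unitStalk X x).toEquiv hs)) m
  have hHdim : topologicalKrullDim (CohB1.support H) ≤ ((0 : ℕ) : WithBot ℕ∞) :=
    hH.dim_le hN (isCoh_quotMod I) 0 (by rw [hI, zero_add]; exact dim_closed_le hn hZ hZu)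
  have h1 := hφ G' hG'
  rw [phi_eq k X hE (hG'.isCoh hN hO) (hdim G' hG')] at h1
  obtain ⟨ξ, hξG, hξ, hξneg⟩ := exists_neg _ _ _ h1
  refine ⟨ξ, fun hξZ => ?_, hξ, hξneg, ?_⟩
  · have h2 : ξ ∈ CohB1.support H := by rw [hGH, hI]; exact ⟨hξG, hξZ⟩
    have h3 : IsClosed (CohB1.support H) := Ega3B.Devissage.isClosed_support (hH.isCoh hN (isCoh_quotMod I))
    have h4 := (Fga.DimLt.topologicalKrullDim_mono
      (closure_minimal (Set.singleton_subset_iff.mpr h2) h3)).trans hHdim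
    rw [hξ] at h4
    exact absurd h4 (by decide)
  · rw [phi_eq_of_cut k hN hL1 hG hG', phi_eq k X hL1 (hG'.isCoh hN hO) (hdim G' hG')]
    exact le_lenSum (hG'.isCoh hN hO) (hdim G' hG') _ (fun ξ _ h => hLpos ξ h) hξG hξ

/-- **The geometric part of S16505.** -/
theorem main (H : Stmt503.{u})
    (k : Type u) [Field k] [IsAlgClosed k]
    (X : Scheme.{u}) [X.Over (Spec (CommRingCat.of k))] [IsIntegral X] [Smooth (X ↘ Spec (CommRingCat.of k))]
    (hX : ∃ (N : ℕ) (ι : X ⟶ CohB1.ProjSpace N k), IsClosedImmersion ι ∧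
      ι ≫ CohB1.ProjSpace.toSpec N k = X ↘ Spec (CommRingCat.of k))
    (n : ℕ) (hn : topologicalKrullDim X = n)
    (hnef : ∀ (C : Scheme.{u}) [C.Over (Spec (CommRingCat.of k))],
      Curve.IsSmoothProperCurve k C (C ↘ Spec (CommRingCat.of k)) →
      ∀ f : C ⟶ X, f ≫ (X ↘ Spec (CommRingCat.of k)) = C ↘ Spec (CommRingCat.of k) →
        Curv2.deg k C ((Scheme.Modules.pullback f).obj (Omega.sheaf (X ↘ Spec (CommRingCat.of k)))) n ≤ 0) :
    (∀ (C : Scheme.{u}) [C.Over (Spec (CommRingCat.of k))],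
      Curve.IsSmoothProperCurve k C (C ↘ Spec (CommRingCat.of k)) →
      ∀ f : C ⟶ X, f ≫ (X ↘ Spec (CommRingCat.of k)) = C ↘ Spec (CommRingCat.of k) →
        Curv2.deg k C ((Scheme.Modules.pullback f).obj (Omega.sheaf (X ↘ Spec (CommRingCat.of k)))) n = 0) ∨
    (∀ x : X, IsClosed ({x} : Set X) → ∃ g : CohB1.ProjSpace 1 k ⟶ X,
      g ≫ (X ↘ Spec (CommRingCat.of k)) = CohB1.ProjSpace.toSpec 1 k ∧
      (¬ ∃ y : X, Set.range g.base ⊆ {y}) ∧ x ∈ Set.range g.base) := by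
  by_contra hcon
  rw [not_or] at hcon
  obtain ⟨hA, hB⟩ := hcon
  apply hB
  push Not at hA
  obtain ⟨C₀, _, hC₀, f₀, hf₀, hne⟩ := hA
  have hneg₀ := lt_of_le_of_ne (hnef C₀ hC₀ f₀ hf₀) hne
  obtain ⟨N, ι, hι, hιk⟩ := hX
  have hP := VarietyB.ProjSpaceProper.isProper_toSpec N k
  have hprop : IsProper (X ↘ Spec (CommRingCat.of k)) := by
    rw [← hιk]
    infer_instance
  have htop : (X ↘ Spec (CommRingCat.of k)).smoothLocus = ⊤ :=
    Scheme.Hom.smoothLocus_eq_top_iff.2 inferInstance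
  have hreg : ∀ x : X, IsRegularLocalRing (X.presheaf.stalk x) := fun x =>
    (VarietyA.SmoothReg.mem_smoothLocus_iff_of_perfectField (X ↘ Spec (CommRingCat.of k)) x).1 (by
      rw [htop]
      trivial)
  have hΩ : FlatMod.IsFinLocFreeOfRank n (Omega.sheaf (X ↘ Spec (CommRingCat.of k))) :=
    (K284.OmegaReg.isFinLocFreeOfRank_omega_iff (X ↘ Spec (CommRingCat.of k)) n hn).2 hreg
  set L : X.Modules := (Scheme.Modules.pullback ι).obj (Twist.twistProjSpace N k 1) with hLdef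
  have hL : CohB1.IsAmple L := Sga5.AmpleFib.isAmple_pullback ι (VarietyA.AmpleField.isAmple_twistProjSpace N k)
  have hL1 : FlatMod.IsFinLocFreeOfRank 1 L := Ega2.QCohLocal.isFinLocFreeOfRank_one_iff.mpr hL.1
  -- curves
  have hnef' : ∀ ξ : X, topologicalKrullDim (closure ({ξ} : Set X)) = 1 →
      cdeg k X (Omega.sheaf (X ↘ Spec (CommRingCat.of k))) n ξ ≤ 0 := by
    intro ξ hξ
    obtain ⟨T, f, hT, -, m, hm, hdeg⟩ := exists_curve (k := k) ξ hξ
    let _ : T.Over (Spec (CommRingCat.of k)) := ⟨f ≫ (X ↘ Spec (CommRingCat.of k))⟩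
    have h1 := hnef T hT f rfl
    have h2 := hdeg n _ hΩ
    change Curv2.deg k T _ n = _ at h2
    rw [h2] at h1
    by_contra h3
    push Not at h3
    exact absurd (mul_pos hm h3) (not_lt.mpr h1)
  have hLpos : ∀ ξ : X, topologicalKrullDim (closure ({ξ} : Set X)) = 1 → 0 ≤ cdeg k X L 1 ξ := by
    intro ξ hξ
    rw [cdeg_eq k X hL1]
    exact (K432.AmpCurve.dg_pos_of_isAmple ((vI ξ).subschemeι ≫ (X ↘ Spec (CommRingCat.of k)))
      (by rw [dim_vI, hξ]) (vI ξ).subschemeι hL).le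
  -- the given curve
  have hpr₀ : IsProper (f₀ ≫ (X ↘ Spec (CommRingCat.of k))) := by rw [hf₀]; exact hC₀.1
  have hint₀ : IsIntegral C₀ := hC₀.2.2.1
  have hdeg₀ : @Curv2.deg k _ C₀ ⟨f₀ ≫ (X ↘ Spec (CommRingCat.of k))⟩
      ((Scheme.Modules.pullback f₀).obj (Omega.sheaf (X ↘ Spec (CommRingCat.of k)))) n < 0 := by
    rw [deg_congr' hf₀]
    exact hneg₀
  rcases deg_map (k := k) hC₀.2.2.2 f₀ with h | ⟨hξ₁, m₀, hm₀, h⟩
  · rw [h n _ hΩ] at hdeg₀
    exact absurd hdeg₀ (lt_irrefl 0)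
  rw [h n _ hΩ] at hdeg₀
  have hneg : cdeg k X (Omega.sheaf (X ↘ Spec (CommRingCat.of k))) n (f₀ (genericPoint C₀)) < 0 := by
    by_contra h3
    push Not at h3
    exact absurd (mul_nonneg hm₀.le h3) (not_le.mpr hdeg₀)
  obtain ⟨D, hD⟩ := core k hreg hL n hn hΩ hnef' hLpos _ hξ₁ hneg
  obtain ⟨Z, hZ, hZ'⟩ := S16504.result k X N ι hιk (2 * n * D).toNat
  have hZu : Z = Set.univ := by
    by_contra hne
    obtain ⟨ξ, hξZ, hξ, hξneg, hξD⟩ := hD Z hZ hne
    obtain ⟨T, f, hT, hrange, m, hm, hdeg⟩ := exists_curve (k := k) ξ hξ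
    let _ : T.Over (Spec (CommRingCat.of k)) := ⟨f ≫ (X ↘ Spec (CommRingCat.of k))⟩
    have hTp : IsProper (f ≫ (X ↘ Spec (CommRingCat.of k))) := hT.1
    have hfp : IsProper f := IsProper.of_comp f (X ↘ Spec (CommRingCat.of k))
    have hJ : JacobsonSpace T := LocallyOfFiniteType.jacobsonSpace (f ≫ (X ↘ Spec (CommRingCat.of k)))
    obtain ⟨t, ht⟩ : ξ ∈ Set.range f := by rw [hrange]; exact subset_closure rfl
    obtain ⟨c, hc, hcc⟩ := nonempty_inter_closedPoints (Z := f ⁻¹' Zᶜ) ⟨t, by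
      change f t ∈ Zᶜ
      rw [ht]
      exact hξZ⟩ (hZ.isOpen_compl.preimage f.continuous).isLocallyClosed
    have hcc' : IsClosed ({c} : Set T) := hcc
    have hfc : IsClosed ({f c} : Set X) := by
      have := f.isClosedMap _ hcc'
      rwa [Set.image_singleton] at this
    have hdΩ := hdeg n _ hΩ
    change Curv2.deg k T _ n = _ at hdΩ
    have hsm : Smooth ((⊤ : X.Opens).ι ≫ (X ↘ Spec (CommRingCat.of k))) := inferInstance
    obtain ⟨g, hg, hgc, hgr, hgd⟩ := H k X N ι hιk n hn T hT f rfl ⊤ (fun _ _ => trivial) hsm (by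
      rw [hdΩ]
      exact mul_neg_of_pos_of_neg hm hξneg) c hcc'
    refine hc ((hZ' (f c) hfc).2 ⟨g, hg, hgc, hgr, ?_⟩)
    have hdL : Curv2.deg k T ((Scheme.Modules.pullback (f ≫ ι)).obj (Twist.twistProjSpace N k 1)) 1 =
        m * cdeg k X L 1 ξ := by
      have h1 := hdeg 1 _ hL1
      change Curv2.deg k T _ 1 = _ at h1
      rw [← h1]
      exact deg_congr (f ≫ (X ↘ Spec (CommRingCat.of k)))
        ((Scheme.Modules.pullbackComp f ι).symm.app (Twist.twistProjSpace N k 1)) 1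
    rw [hdΩ, hdL] at hgd
    generalize Curv2.deg k (CohB1.ProjSpace 1 k)
      ((Scheme.Modules.pullback (g ≫ ι)).obj (Twist.twistProjSpace N k 1)) 1 = a at hgd ⊢
    generalize cdeg k X (Omega.sheaf (X ↘ Spec (CommRingCat.of k))) n ξ = b at hgd hξneg
    have hl := hLpos ξ hξ
    generalize cdeg k X L 1 ξ = l at hgd hξD hl
    rw [Int.toNat_of_nonneg (by have : 0 ≤ D := hl.trans hξD; positivity)]
    by_cases ha : a < 0
    · have : 0 ≤ D := hl.trans hξD
      have h2 : 0 ≤ 2 * (n : ℤ) * D := by positivity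
      omega
    · push Not at ha
      have h1 : a * (-b) ≤ 2 * n * l := by
        have h2 : m * (a * (-b)) ≤ m * (2 * n * l) := by linarith
        exact le_of_mul_le_mul_left h2 hm
      have h2 : a ≤ a * (-b) := by nlinarith
      have h3 : 2 * (n : ℤ) * l ≤ 2 * n * D := by
        have : (0 : ℤ) ≤ 2 * n := by positivity
        exact mul_le_mul_of_nonneg_left hξD this
      linarith
  intro x hx
  obtain ⟨g, hg, hgc, hgr, -⟩ := (hZ' x hx).1 (by rw [hZu]; trivial)
  exact ⟨g, hg, hgc, hgr⟩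

end

end K792.NefMain
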